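import Cfsg.Agent.Spor.HSpa.L.D0

set_option autoImplicit false
set_option maxRecDepth 100000000
set_option Elab.async false

namespace Cfsg.Agent.Spor.HSpa.L

theorem uok5 : Net.okb 8 un5 = true := by decide +kernel

theorem rel3 : U.rel 8 [11, 1, 3, 5, 7, 3, 5, 9, 7] 0 8 = true := by decide +kernel

theorem rel4 : U.rel 8 [11, 11, 11, 11, 11, 11, 11, 11, 11, 11, 11] 0 8 = true := by decide +kernel

theorem gr6 : sub M5 (U.growI W1 [4, 3, 1, 0, 2, 3, 4, 1, 0, 1, 2, 3, 4, 1, 0, 1, 2, 3, 0, 1, 2] (Nat.shiftLeft 1 0)) = true := by decide +kernel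

theorem cl8 : band (U.closedW W1 M5) (sub (Nat.shiftLeft 1 0) M5) = true := by decide +kernel

theorem sz9 : sizeOk 8 M5 176 = true := by decide +kernel

theorem fx11 : U.closedW W2 (Nat.shiftLeft 1 0) = true := by decide +kernel

theorem gr13 : sub M12 (U.growI W2 [3, 1, 0, 2, 3, 1, 0, 1, 2, 3, 1, 0, 1, 2, 3, 1, 0, 1, 2] (Nat.shiftLeft 1 1)) = true := by decide +kernel

theorem cl15 : band (U.closedW W2 M12) (sub (Nat.shiftLeft 1 1) M12) = true := by decide +kernel

theorem sz16 : sizeOk 8 M12 175 = true := by decide +kernel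

theorem fx19 : U.closedW W18 (Nat.shiftLeft 1 1) = true := by decide +kernel

theorem uok6 : Net.okb 8 un6 = true := by decide +kernel

theorem rel20 : U.rel 8 [13, 3, 1, 3, 5, 1, 5, 3, 1, 5, 1, 3, 1, 3, 3, 1, 3, 5] 0 8 = true := by decide +kernel

theorem uok7 : Net.okb 8 un7 = true := by decide +kernel

theorem rel21 : U.rel 8 [15, 3, 1, 5, 3, 5, 3, 5, 5, 3, 5, 3, 5] 0 8 = true := by decide +kernel

theorem uok8 : Net.okb 8 un8 = true := by decide +kernel

theorem rel22 : U.rel 8 [17, 1, 3, 5, 3, 5, 3, 5, 3, 5, 3, 5, 1, 3, 1, 5, 3, 5, 1, 5, 1, 5, 1, 5, 3, 5, 1, 3, 1, 5, 1, 3, 5, 3, 1, 3, 5, 3, 1, 5, 3, 5, 3, 1, 3, 5] 0 8 = true := by decide +kernel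

theorem gr24 : sub M23 (U.growI W18 [2, 1, 0, 1, 2, 1, 0, 1, 2, 1, 0, 1, 2, 1, 0, 1, 2, 1, 2] (Nat.shiftLeft 1 25)) = true := by decide +kernel

theorem cl26 : band (U.closedW W18 M23) (sub (Nat.shiftLeft 1 25) M23) = true := by decide +kernel

theorem sz27 : sizeOk 8 M23 90 = true := by decide +kernel

theorem fx30 : U.closedW W29 (Nat.shiftLeft 1 25) = true := by decide +kernel

theorem gr32 : sub M31 (U.growI W29 [0, 1, 2, 2, 1, 1] (Nat.shiftLeft 1 13)) = true := by decide +kernel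

theorem cl34 : band (U.closedW W29 M31) (sub (Nat.shiftLeft 1 13) M31) = true := by decide +kernel

theorem sz35 : sizeOk 8 M31 16 = true := by decide +kernel

end Cfsg.Agent.Spor.HSpa.L
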